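import Cfsg.Agent.Lib.Layer.TW
import Mathlib.GroupTheory.SpecificGroups.Alternating.Simple

/-! Subconstituents containing the alternating group: preliminaries. -/

set_option autoImplicit false
set_option linter.unusedSectionVars false
set_option linter.style.haveILetI false

namespace Cfsg.Lib.AltSub
open Subgroup Equiv Equiv.Perm Cfsg.Lib.Core Cfsg.Lib.Amalg Cfsg.Lib.BG1 Cfsg.Lib.Layer

section P
variable {α : Type*} [Fintype α] [DecidableEq α]

theorem alt_not_comm (h : 5 ≤ Nat.card α) : ¬ IsMulCommutative (alternatingGroup α) := fun c => by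
  have := alternatingGroup.isMulCommutative_iff_card_le_three.1 c
  omega

theorem cent_alt (h : 5 ≤ Nat.card α) : 𝐂(alternatingGroup α) = ⊥ := by
  by_contra c
  haveI : (𝐂(alternatingGroup α)).Normal := inferInstance
  exact alt_not_comm h (le_centralizer_iff_isMulCommutative.1
    (alternatingGroup_le_of_normal h ((nontrivial_iff_ne_bot _).2 c)))

theorem alt_le_of_norm (h : 5 ≤ Nat.card α) {X : Subgroup (Perm α)} (hX : alternatingGroup α ≤ 𝐍(X)) (h0 : X ≠ ⊥) :
    alternatingGroup α ≤ X := by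
  haveI := normal_subgroupOf_of_le_normalizer hX
  rcases alternatingGroup.normal_subgroup_eq_bot_or_eq_top h (N := X.subgroupOf (alternatingGroup α)) with e | e
  · refine absurd (eq_bot_iff.2 ?_) h0
    rw [← cent_alt h]
    refine commutator_eq_bot_iff_le_centralizer.1 (eq_bot_iff.2 ?_)
    rw [← (subgroupOf_eq_bot.1 e).eq_bot]
    exact le_inf (commutator_le_left_of_norm hX) (commutator_le_right _ _)
  · exact subgroupOf_eq_top.1 e

theorem alt_not_solv (h : 5 ≤ Nat.card α) {X : Subgroup (Perm α)} (hX : alternatingGroup α ≤ X) :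
    ¬ Group.IsSolvable X := fun c => by
  have := eq_bot_of_perfect_of_le_solvable (commutator_alternatingGroup_eq_self h) hX c
  exact (nontrivial_iff_ne_bot _).1 (alternatingGroup.nontrivial_of_three_le_card (α := α) (by omega)) this

theorem two_card_alt (h : 5 ≤ Nat.card α) : 2 * Nat.card (alternatingGroup α) = (Nat.card α).factorial := by
  haveI : Nontrivial α := Finite.one_lt_card_iff_nontrivial.1 (by omega)
  rw [two_mul_nat_card_alternatingGroup, Nat.card_perm]

theorem alt_trans (h : 5 ≤ Nat.card α) (x y : α) : ∃ s ∈ alternatingGroup α, s x = y := by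
  haveI := alternatingGroup.isPretransitive_of_three_le_card (α := α) (by omega)
  obtain ⟨s, hs⟩ := MulAction.exists_smul_eq (alternatingGroup α) x y
  exact ⟨s, s.2, hs⟩

end P

variable {G : Type*} [Group G] [Finite G] {M N X Y Z H R : Subgroup G}

section Reach

/-- `Y` is reached from `H` through normal steps of index `< n`. -/
inductive Reach (n : ℕ) (H : Subgroup G) : Subgroup G → Prop
  | refl : Reach n H H
  | step {Y Z : Subgroup G} : Reach n H Y → Z ≤ Y → Y ≤ 𝐍(Z) → Z.relIndex Y < n → Reach n H Z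

variable {n : ℕ}

theorem Reach.trans (a : Reach n H X) (b : Reach n X Y) : Reach n H Y := by
  induction b with
  | refl => exact a
  | step _ h1 h2 h3 ih => exact .step ih h1 h2 h3

theorem Reach.inter (a : Reach n H Y) (X : Subgroup G) : Reach n (X ⊓ H) (X ⊓ Y) := by
  induction a with
  | refl => exact .refl
  | @step Y Z _ h1 h2 h3 ih =>
    refine .step ih (inf_le_inf_left _ h1) (le_normalizer_inf (inf_le_left.trans le_normalizer) (inf_le_right.trans h2))
      (lt_of_le_of_lt ?_ h3)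
    rw [show X ⊓ Z = Z ⊓ (X ⊓ Y) by rw [inf_left_comm, inf_of_le_left h1], inf_relIndex_right]
    exact Nat.le_of_dvd relIndex_pos (relIndex_dvd_of_norm inf_le_right h2)

theorem Reach.le (a : Reach n H Y) : Y ≤ H := by
  induction a with
  | refl => exact le_rfl
  | step _ h1 _ _ ih => exact h1.trans ih

theorem Reach.conj (a : Reach n H Y) (g : G) : Reach n (cj g H) (cj g Y) := by
  induction a with
  | refl => exact .refl
  | step _ h1 h2 h3 ih => exact .step ih (cj_mono g h1) (by rw [← cj_normalizer]; exact cj_mono g h2) (by rwa [relIndex_cj])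

/-- The least reachable subgroup. -/
def Res (n : ℕ) (H R : Subgroup G) : Prop := Reach n H R ∧ ∀ Y, Reach n H Y → R ≤ Y

theorem exists_res (n : ℕ) (H : Subgroup G) : ∃ R, Res n H R := by
  obtain ⟨R, h1, h2⟩ := (Set.toFinite {Y | Reach n H Y}).exists_minimal ⟨H, .refl⟩
  refine ⟨R, h1, fun Y hY => ?_⟩
  have := hY.inter R
  rw [inf_of_le_left h1.le] at this
  exact (h2 (h1.trans this) inf_le_left).trans inf_le_right

theorem Res.norm (a : Res n H R) : 𝐍(H) ≤ 𝐍(R) := fun g hg => by
  have h1 := a.1.conj g⁻¹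
  rw [cj_of_mem_normalizer ((𝐍(H)).inv_mem hg)] at h1
  exact mem_normalizer_of_cj_le (cj_le_iff.2 (a.2 _ h1))

theorem Res.down (a : Res n H R) (h : Reach n H X) : Res n X R := by
  refine ⟨?_, fun Y hY => a.2 _ (h.trans hY)⟩
  have := a.1.inter X
  rwa [inf_of_le_left h.le, inf_of_le_right (a.2 _ h)] at this

theorem Res.uniq {R' : Subgroup G} (a : Res n H R) (b : Res n H R') : R = R' := le_antisymm (a.2 _ b.1) (b.2 _ a.1)

end Reach

section Hom
variable {P : Type*} [Group P]

/-- Kernel in the ambient group. -/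
def K (φ : M →* P) : Subgroup G := φ.ker.map M.subtype
/-- Image of a subgroup of the ambient group. -/
def im (φ : M →* P) (X : Subgroup G) : Subgroup P := (X.subgroupOf M).map φ

variable {φ : M →* P}

theorem mem_K {x : M} : (x : G) ∈ K φ ↔ φ x = 1 :=
  ⟨fun ⟨y, h, e⟩ => (Subtype.ext e : y = x) ▸ h, fun h => ⟨x, h, rfl⟩⟩
theorem K_le : K φ ≤ M := map_subtype_le _
theorem K_norm : M ≤ 𝐍(K φ) := le_normalizer_map_subtype _
theorem mem_im {s : P} : s ∈ im φ X ↔ ∃ x : M, (x : G) ∈ X ∧ φ x = s := Iff.rfl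
theorem im_mono (h : X ≤ Y) : im φ X ≤ im φ Y := map_mono (comap_mono h)
theorem im_self : im φ M = φ.range := by rw [im, subgroupOf_self, MonoidHom.range_eq_map]
theorem im_eq_bot (h : X ≤ M) : im φ X = ⊥ ↔ X ≤ K φ :=
  ⟨fun e x hx => (mem_K (x := ⟨x, h hx⟩)).2 (mem_bot.1 (e ▸ mem_im.2 ⟨_, hx, rfl⟩)),
    fun e => eq_bot_iff.2 fun _ ⟨_, hx, e'⟩ => e' ▸ mem_bot.2 (mem_K.1 (e hx))⟩
theorem im_norm (h : Y ≤ 𝐍(X)) [Finite P] : im φ Y ≤ 𝐍(im φ X) := by
  rintro _ ⟨y, hy, rfl⟩
  refine mem_normalizer_of_cj_le (cj_le_iff'.2 ?_)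
  rintro _ ⟨x, hx, rfl⟩
  exact ⟨y * x * y⁻¹, (mem_normalizer_iff.1 (h hy) x).1 hx, by simp⟩
theorem im_cent (h : Y ≤ 𝐂(X)) : im φ Y ≤ 𝐂(im φ X) := by
  rintro _ ⟨y, hy, rfl⟩ _ ⟨x, hx, rfl⟩
  rw [← map_mul, ← map_mul]
  exact congrArg φ (Subtype.ext (h hy x hx))
theorem relIndex_K (h : Y ≤ M) : (K φ).relIndex Y = Nat.card (im φ Y) := by
  rw [im, ← relIndex_ker, ← relIndex_subgroupOf h, K, subgroupOf, comap_map_eq_self_of_injective M.subtype_injective]
theorem card_im_le : Nat.card (im φ X) ≤ Nat.card X :=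
  (card_map_dvd _ _ |> Nat.le_of_dvd Nat.card_pos).trans
    (Nat.card_le_card_of_injective (fun x => (⟨x.1.1, x.2⟩ : X)) fun _ _ e =>
      Subtype.ext (Subtype.ext (congrArg (fun z : X => (z : G)) e)))
theorem im_solv (h : X ≤ M) (hs : Group.IsSolvable X) : Group.IsSolvable (im φ X) := by
  haveI := hs
  haveI : Group.IsSolvable (X.subgroupOf M) := Group.isSolvable_of_surjective (f := (subgroupOfEquivOfLe h).symm.toMonoidHom)
    (subgroupOfEquivOfLe h).symm.surjective
  exact Group.isSolvable_of_surjective (MonoidHom.subgroupMap_surjective φ _)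
theorem im_comm (hX : X ≤ M) (hY : Y ≤ M) : im φ ⁅X, Y⁆ = ⁅im φ X, im φ Y⁆ := by
  rw [im, im, im, ← map_commutator]
  congr 1
  apply map_injective M.subtype_injective
  rw [map_commutator, map_subgroupOf_eq_of_le hX, map_subgroupOf_eq_of_le hY,
    map_subgroupOf_eq_of_le ((commutator_mono hX hY).trans (commutator_le_left_of_norm le_normalizer))]

end Hom

section A
variable {α : Type*} [Fintype α] [DecidableEq α] {φ : M →* Perm α}

theorem dich (h : 5 ≤ Nat.card α) (hX : X ≤ M) (hY : alternatingGroup α ≤ im φ Y) (hn : Y ≤ 𝐍(X)) :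
    X ≤ K φ ∨ alternatingGroup α ≤ im φ X := by
  by_cases c : im φ X = ⊥
  · exact .inl ((im_eq_bot hX).1 c)
  · exact .inr (alt_le_of_norm h (hY.trans (im_norm hn)) c)

theorem le_K_of_cent (h : 5 ≤ Nat.card α) (hY : Y ≤ M) (hX : alternatingGroup α ≤ im φ X) (hc : Y ≤ 𝐂(X)) : Y ≤ K φ :=
  (im_eq_bot hY).1 (eq_bot_iff.2 (cent_alt h ▸ (im_cent hc).trans (centralizer_le hX)))

theorem fit_le_K (h : 5 ≤ Nat.card α) (hA : alternatingGroup α ≤ φ.range) : fittingOf M ≤ K φ :=
  (dich h (fitOf_le M) (im_self (φ := φ) ▸ hA) (le_norm_fittingOf le_normalizer)).resolve_right fun c =>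
    alt_not_solv h c (im_solv (fitOf_le M) (solvable_of_nilpotent (fittingOf_nilpotent M)))

theorem Reach.alt (h : 5 ≤ Nat.card α) (hA : alternatingGroup α ≤ φ.range)
    (a : Reach (Nat.card (alternatingGroup α)) M Y) : alternatingGroup α ≤ im φ Y := by
  induction a with
  | refl => exact im_self (φ := φ) ▸ hA
  | @step Y Z a h1 h2 h3 ih =>
    refine (dich h (h1.trans a.le) ih h2).resolve_left fun c => h3.not_ge ?_
    refine le_trans ?_ (relIndex_le_of_le_left c relIndex_pos.ne')
    rw [relIndex_K a.le]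
    exact card_le_of_le ih

end A

end Cfsg.Lib.AltSub
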