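import Cfsg.Agent.Lib.AltSub.A

/-! Subconstituents containing the alternating group: the local analysis. -/

set_option autoImplicit false
set_option linter.unusedSectionVars false
set_option linter.style.haveILetI false

namespace Cfsg.Lib.AltSub
open Subgroup Equiv Equiv.Perm Cfsg.Lib.Core Cfsg.Lib.Amalg Cfsg.Lib.BG1 Cfsg.Lib.Layer

variable {G : Type*} [Group G] [Finite G] {M N B X Y Z : Subgroup G}
variable {α β : Type*} [Fintype α] [DecidableEq α] [Fintype β] [DecidableEq β]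
variable {φ : M →* Perm α} {ψ : N →* Perm β} {p : α} {q : β}

/-- `B` is the stabilizer of `p` in `M`. -/
structure Loc (B : Subgroup G) (φ : M →* Perm α) (p : α) : Prop where
  le : B ≤ M
  fix : ∀ m : M, φ m p = p ↔ (m : G) ∈ B

theorem card_ne (p : α) : Nat.card {x // x ≠ p} = Nat.card α - 1 := by
  simp [Nat.card_eq_fintype_card, Fintype.card_subtype_compl]

theorem Loc.K_le (L : Loc B φ p) : K φ ≤ B := fun x hx =>
  (L.fix ⟨x, AltSub.K_le hx⟩).1 (by rw [mem_K.1 hx]; rfl)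

theorem Loc.rho (L : Loc B φ p) : ∃ ρ : B →* Perm {x // x ≠ p}, ∀ b : B, ofSubtype (ρ b) = φ ⟨b, L.le b.2⟩ := by
  have h : ∀ (b : B) x, φ ⟨b, L.le b.2⟩ x ≠ p ↔ x ≠ p := fun b x =>
    (φ _).injective.ne_iff' ((L.fix ⟨b, L.le b.2⟩).2 b.2)
  refine ⟨MonoidHom.mk' (fun b => (φ ⟨b, L.le b.2⟩).subtypePerm (h b)) fun a b => ?_, fun b =>
    ofSubtype_subtypePerm (h b) fun x hx e => hx (by rw [e]; exact (L.fix _).2 b.2)⟩
  ext x
  exact congrFun (congrArg DFunLike.coe (map_mul φ ⟨a, L.le a.2⟩ ⟨b, L.le b.2⟩)) x.1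

theorem Loc.K_rho (L : Loc B φ p) {ρ : B →* Perm {x // x ≠ p}} (h : ∀ b : B, ofSubtype (ρ b) = φ ⟨b, L.le b.2⟩) :
    K ρ = K φ := by
  ext x
  refine ⟨fun hx => (mem_K (x := ⟨x, L.le (AltSub.K_le hx)⟩)).2 ?_, fun hx => (mem_K (x := ⟨x, L.K_le hx⟩)).2 ?_⟩
  · rw [← h ⟨x, AltSub.K_le hx⟩, mem_K.1 hx, map_one]
  · exact ofSubtype_injective (by rw [h, map_one]; exact mem_K.1 hx)

theorem Loc.alt_rho (L : Loc B φ p) {ρ : B →* Perm {x // x ≠ p}} (h : ∀ b : B, ofSubtype (ρ b) = φ ⟨b, L.le b.2⟩)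
    (hA : alternatingGroup α ≤ φ.range) : alternatingGroup _ ≤ ρ.range := fun t ht => by
  obtain ⟨m, hm⟩ := hA (show ofSubtype t ∈ alternatingGroup α by rwa [mem_alternatingGroup, sign_ofSubtype])
  exact ⟨⟨m, (L.fix m).1 (hm ▸ ofSubtype_apply_of_not_mem t (not_not.2 rfl))⟩, ofSubtype_injective ((h _).trans hm)⟩

theorem fact_lt (h : 5 ≤ Nat.card α) : (Nat.card α - 1).factorial < Nat.card (alternatingGroup α) := by
  have := two_card_alt h
  rw [← Nat.mul_factorial_pred (by omega : Nat.card α ≠ 0)] at this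
  have := (Nat.card α - 1).factorial_pos
  nlinarith

theorem card_im_rho_lt (h : 5 ≤ Nat.card α) (ρ : B →* Perm {x // x ≠ p}) :
    Nat.card (im ρ X) < Nat.card (alternatingGroup α) :=
  lt_of_le_of_lt ((card_le_card_group _).trans (by rw [Nat.card_perm, card_ne])) (fact_lt h)

theorem Loc.reach (L : Loc B φ p) (h : 5 ≤ Nat.card α) : Reach (Nat.card (alternatingGroup α)) B (K φ) := by
  obtain ⟨ρ, hρ⟩ := L.rho
  refine .step .refl L.K_le (L.le.trans K_norm) ?_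
  rw [← L.K_rho hρ, relIndex_K le_rfl]
  exact card_im_rho_lt h ρ

theorem alt_le_psi (hM : Prim M) (hne : M ≠ N) {g : G} (hg : N = cj g M) (L : Loc B φ p) (L' : Loc B ψ q)
    (h : 5 ≤ Nat.card α) (hc : Nat.card β = Nat.card α) (hA : alternatingGroup α ≤ φ.range) :
    alternatingGroup β ≤ ψ.range := by
  by_contra c
  have h1 : (K ψ).relIndex N < Nat.card (alternatingGroup α) := by
    rw [relIndex_K le_rfl, im_self]
    by_contra c'
    refine c (alternatingGroup_le_of_index_le_two ?_)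
    have e1 := ψ.range.card_mul_index
    rw [Nat.card_perm, hc, ← two_card_alt h] at e1
    have : 0 < Nat.card (alternatingGroup α) := Nat.card_pos
    by_contra c''
    nlinarith
  have h2 : Reach _ N (K ψ) := .step .refl K_le K_norm h1
  have h3 : Reach _ B (K ψ) := .step .refl L'.K_le (L'.le.trans K_norm)
    ((Nat.le_of_dvd relIndex_pos (relIndex_dvd_of_norm L'.le K_norm)).trans_lt h1)
  obtain ⟨R, hR⟩ := exists_res (Nat.card (alternatingGroup α)) B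
  obtain ⟨R', hR'⟩ := exists_res (Nat.card (alternatingGroup α)) N
  have e : R = R' := (hR.down h3).uniq (hR'.down h2)
  subst e
  have e : R = ⊥ := hM.eq_bot (hg ▸ hM.conj g) hne (hR.1.le.trans L.le) (hR.1.le.trans L'.le)
    (K_norm.trans (hR.down (L.reach h)).norm) (le_normalizer.trans hR'.norm)
  have h4 := hR'.1.conj g⁻¹
  rw [e, cj_bot, hg, cj_inv_cj] at h4
  have h5 := h4.alt h hA
  rw [(im_eq_bot bot_le).2 bot_le] at h5
  exact alt_not_solv h h5 inferInstance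

/-- The centralizer of the kernel. -/
def W (φ : M →* Perm α) : Subgroup G := M ⊓ 𝐂(K φ)

theorem W_le : W φ ≤ M := inf_le_left
theorem W_norm : M ≤ 𝐍(W φ) := le_normalizer_inf le_normalizer (le_normalizer_centralizer K_norm)
theorem W0_le : ⁅W φ, W φ⁆ ≤ W φ := commutator_le_left_of_norm le_normalizer
theorem W0_norm : M ≤ 𝐍(⁅W φ, W φ⁆) := le_norm_der W_norm

theorem Loc.W_disj (L : Loc B φ p) (hF : fittingOf B = ⊥) : W φ ⊓ K φ = ⊥ := by
  refine eq_bot_iff.2 (hF ▸ le_fittingOf (inf_le_right.trans L.K_le) (L.le.trans (le_normalizer_inf W_norm K_norm)) ?_)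
  haveI : IsMulCommutative (W φ ⊓ K φ : Subgroup G) := le_centralizer_iff_isMulCommutative.1
    ((inf_le_left.trans inf_le_right).trans (centralizer_le (SetLike.coe_subset_coe.2 inf_le_right)))
  open scoped IsMulCommutative in infer_instance

theorem Loc.im_W0 (L : Loc B φ p) (hF : fittingOf B = ⊥) (h : 5 ≤ Nat.card α) (hA : alternatingGroup α ≤ φ.range)
    (h0 : W φ ≠ ⊥) : im φ ⁅W φ, W φ⁆ = alternatingGroup α := by
  have h1 : alternatingGroup α ≤ im φ (W φ) := (dich h W_le (im_self (φ := φ) ▸ hA) W_norm).resolve_left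
    fun c => h0 (by rw [← L.W_disj hF, inf_of_le_left c])
  rw [im_comm W_le W_le]
  refine le_antisymm ((commutator_mono le_top le_top).trans alternatingGroup.commutator_perm_le) ?_
  rw [← commutator_alternatingGroup_eq_self h]
  exact commutator_mono h1 h1

theorem iso_im {P : Type*} [Group P] {φ : M →* P} (hX : X ≤ M) (h : X ⊓ K φ = ⊥) : Nonempty (X ≃* im φ X) :=
  ⟨(subgroupOfEquivOfLe hX).symm.trans (MulEquiv.ofBijective (φ.subgroupMap _)
    ⟨(injective_iff_map_eq_one _).2 fun x hx => Subtype.ext (Subtype.ext (mem_bot.1 (h ▸ (⟨x.2,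
      mem_K.2 (congrArg Subtype.val hx)⟩ : (x.1 : G) ∈ X ⊓ K φ)))), MonoidHom.subgroupMap_surjective φ _⟩)⟩

theorem Loc.W0_le_E (L : Loc B φ p) (hF : fittingOf B = ⊥) (h : 5 ≤ Nat.card α) (hA : alternatingGroup α ≤ φ.range) :
    ⁅W φ, W φ⁆ ≤ 𝐄(M) := by
  by_cases h0 : W φ = ⊥
  · exact W0_le.trans (h0.le.trans bot_le)
  have hle : ⁅W φ, W φ⁆ ≤ M := W0_le.trans inf_le_left
  obtain ⟨e⟩ := iso_im (φ := φ) hle (eq_bot_iff.2 (L.W_disj hF ▸ inf_le_inf_right _ W0_le))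
  rw [L.im_W0 hF h hA h0] at e
  haveI := alternatingGroup.isSimpleGroup h
  exact le_layerOf hle ((isComponent_subgroupOf_iff hle).2 ⟨isSubnormal_subgroupOf_of_le_normalizer W0_norm,
    IsQuasisimple.of_mulEquiv (isQuasisimple_of_isSimpleGroup (alt_not_comm h)) e.symm⟩)

theorem Loc.E_le (L : Loc B φ p) (hF : fittingOf B = ⊥) (h : 5 ≤ Nat.card α) (hA : alternatingGroup α ≤ φ.range) :
    𝐄(B) ≤ 𝐄(M) := layerOf_le_iff.2 fun X hX c => by
  rcases component_of_le_or_commutator_eq_bot hX c L.K_le ((hX.trans L.le).trans K_norm) with a | a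
  · exact (le_layerOf a (isComponent_subgroupOf_of_le a L.K_le c)).trans
      (layerOf_mono AltSub.K_le (isSubnormal_subgroupOf_of_le_normalizer K_norm))
  · have a' : X ≤ W φ := le_inf (hX.trans L.le) (commutator_eq_bot_iff_le_centralizer.1 a)
    rw [← IsQuasisimple.commutator_self ((isComponent_subgroupOf_iff hX).1 c).2]
    exact (commutator_mono a' a').trans (L.W0_le_E hF h hA)

theorem W_ne (hM : Prim M) (hne : M ≠ N) {g : G} (hg : N = cj g M) (L : Loc B φ p) (L' : Loc B ψ q)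
    (hF : fittingOf B = ⊥) (h : 5 ≤ Nat.card α) (h' : 5 ≤ Nat.card β) (hA : alternatingGroup α ≤ φ.range)
    (hA' : alternatingGroup β ≤ ψ.range) : W φ ≠ ⊥ := fun h0 => by
  have h1 : 𝐄(M) ≤ K φ := layerOf_le_iff.2 fun X hX c =>
    (component_of_le_or_commutator_eq_bot hX c K_le (hX.trans K_norm)).elim id fun a =>
      (le_inf hX (commutator_eq_bot_iff_le_centralizer.1 a) : X ≤ W φ).trans (h0.le.trans bot_le)
  have h2 : 𝐄(M) = 𝐄(N) := eq_of_le_of_card_ge ((layerOf_le_layerOf L.le (h1.trans L.K_le)).trans (L'.E_le hF h' hA'))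
    (by rw [hg, layerOf_map_of_injective (MulAut.conj g).injective, card_cj])
  have h3 : 𝐄(M) = ⊥ := hM.eq_bot (hg ▸ hM.conj g) hne (layerOf_le M) (h2 ▸ layerOf_le N) (le_norm_layerOf le_normalizer)
    (h2 ▸ le_norm_layerOf le_normalizer)
  have h4 : fittingOf M = ⊥ := eq_bot_iff.2 (hF ▸ le_fittingOf ((fit_le_K h hA).trans L.K_le)
    (L.le.trans (le_norm_fittingOf le_normalizer)) (fittingOf_nilpotent M))
  have h5 := inf_centralizer_fstarOf_le M
  rw [fstarOf_eq', h3, show (fittingSubgroup M).map M.subtype = fittingOf M from rfl, h4, bot_sup_eq,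
    inf_of_le_left (le_cent_bot M)] at h5
  rw [← im_self, (im_eq_bot le_rfl).2 (h5.trans bot_le)] at hA
  exact alt_not_solv h hA inferInstance

theorem Loc.fac (L : Loc B φ p) (h : 5 ≤ Nat.card α) (hA : alternatingGroup α ≤ im φ X) (m : M) :
    ∃ w : M, (w : G) ∈ X ∧ (w : G)⁻¹ * m ∈ B := by
  obtain ⟨s, hs, e⟩ := alt_trans h p (φ m p)
  obtain ⟨w, hw, rfl⟩ := hA hs
  exact ⟨w, hw, (L.fix (w⁻¹ * m)).1 (by rw [map_mul, map_inv, Perm.mul_apply, ← e]; simp)⟩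

theorem Loc.norm_of (L : Loc B φ p) (h : 5 ≤ Nat.card α) (hA : alternatingGroup α ≤ im φ X) (h1 : X ≤ 𝐍(Y))
    (h2 : B ≤ 𝐍(Y)) : M ≤ 𝐍(Y) := fun m hm => by
  obtain ⟨w, a, b⟩ := L.fac h hA ⟨m, hm⟩
  simpa using (𝐍(Y)).mul_mem (h1 a) (h2 b)

theorem exists_ext {H P : Type*} [Group H] [Group P] (A C : Subgroup H) [A.Normal] (h : ∀ m, ∃ w ∈ A, w⁻¹ * m ∈ C)
    (ρ : C →* P) (hk : ∀ c : C, (c : H) ∈ A → ρ c = 1) : ∃ Ψ : H →* P, (∀ c : C, Ψ c = ρ c) ∧ ∀ w ∈ A, Ψ w = 1 := by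
  have hs : Function.Surjective ((QuotientGroup.mk' A).comp C.subtype) := fun x => by
    obtain ⟨m, rfl⟩ := QuotientGroup.mk_surjective x
    obtain ⟨w, a, b⟩ := h m
    refine ⟨⟨_, b⟩, (QuotientGroup.eq.2 ?_).symm⟩
    simpa [mul_assoc] using ‹A.Normal›.conj_mem _ (A.inv_mem a) m⁻¹
  refine ⟨(MonoidHom.liftOfSurjective _ hs ⟨ρ, fun c hc => hk c ((QuotientGroup.eq_one_iff _).1 hc)⟩).comp
    (QuotientGroup.mk' A), fun c => MonoidHom.liftOfRightInverse_comp_apply _ _ (Function.rightInverse_surjInv hs) _ c, fun w hw => ?_⟩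
  rw [MonoidHom.comp_apply, QuotientGroup.mk'_apply, (QuotientGroup.eq_one_iff _).2 hw, map_one]

theorem main (hM : Prim M) (hne : M ≠ N) {g : G} (hg : N = cj g M) (L : Loc (M ⊓ N) φ p) (L' : Loc (M ⊓ N) ψ q)
    (h6 : 6 ≤ Nat.card α) (hc : Nat.card β = Nat.card α) (hA : alternatingGroup α ≤ φ.range) (hK : K φ ≠ ⊥) :
    ∃ Ψ : M →* Perm {y // y ≠ q}, (∀ m, φ m = 1 → Ψ m = 1 → m = 1) ∧
      (∀ s t, sign s = 1 → sign t = 1 → ∃ m, φ m = s ∧ Ψ m = t) ∧ ((∀ m, sign (φ m) = 1) → ∀ m, sign (Ψ m) = 1) := by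
  have h : 5 ≤ Nat.card α := by omega
  have h' : 5 ≤ Nat.card β := by omega
  have hN : Prim N := hg ▸ hM.conj g
  have hA' := alt_le_psi hM hne hg L L' h hc hA
  have hF : fittingOf (M ⊓ N) = ⊥ := by
    obtain ⟨ρ, hρ⟩ := L.rho
    refine fit_inf_eq_bot hM hne hg ((fit_le_K (by rw [card_ne]; omega) (L.alt_rho hρ hA)).trans ?_)
    rw [L.K_rho hρ]
    exact le_coreIn K_le L.K_le K_norm
  have w1 := L.im_W0 hF h hA (W_ne hM hne hg L L' hF h h' hA hA')
  have w2 := L'.im_W0 hF h' hA' (W_ne hN hne.symm (g := g⁻¹) (by rw [hg, cj_inv_cj]) L' L hF h' h hA' hA)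
  have hDB : M ⊓ N ≤ 𝐍(K φ ⊓ K ψ) := le_normalizer_inf (inf_le_left.trans K_norm) (inf_le_right.trans K_norm)
  have hD : K φ ⊓ K ψ = ⊥ := hM.eq_bot hN hne (inf_le_left.trans K_le) (inf_le_right.trans K_le)
    (L.norm_of h w1.ge (le_norm_of_le_cent ((W0_le.trans inf_le_right).trans (cent_anti inf_le_left))) hDB)
    (L'.norm_of h' w2.ge (le_norm_of_le_cent ((W0_le.trans inf_le_right).trans (cent_anti inf_le_right))) hDB)
  obtain ⟨ρ, hρ⟩ := L'.rho
  have h5 : 5 ≤ Nat.card {y // y ≠ q} := by rw [card_ne]; omega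
  have a1 : alternatingGroup _ ≤ im ρ (K φ) := (dich h5 L.K_le (im_self (φ := ρ) ▸ L'.alt_rho hρ hA')
    (inf_le_left.trans K_norm)).resolve_left fun c => hK (by rw [← hD, ← L'.K_rho hρ, inf_of_le_left c])
  have a2 : ⁅W φ, W φ⁆ ⊓ (M ⊓ N) ≤ K ρ := le_K_of_cent h5 inf_le_right a1 (inf_le_left.trans (W0_le.trans inf_le_right))
  haveI := normal_subgroupOf_of_le_normalizer (W0_norm (φ := φ))
  obtain ⟨Ψ, b1, b2⟩ := exists_ext (⁅W φ, W φ⁆.subgroupOf M) ((M ⊓ N).subgroupOf M) (L.fac h w1.ge)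
    (ρ.comp (subgroupOfEquivOfLe L.le).toMonoidHom) fun c hc => (mem_K (φ := ρ) (x := ⟨c.1, c.2⟩)).1 (a2 ⟨hc, c.2⟩)
  have b3 : ∀ (m : M) (hm : (m : G) ∈ M ⊓ N), Ψ m = ρ ⟨m, hm⟩ := fun m hm => b1 ⟨m, hm⟩
  refine ⟨Ψ, fun m c1 c2 => ?_, fun s t hs ht => ?_, fun hs m => ?_⟩
  · have c3 := mem_K.2 c1
    rw [b3 m (L.K_le c3), ← mem_K, L'.K_rho hρ] at c2
    exact Subtype.ext (mem_bot.1 (hD ▸ (⟨c3, c2⟩ : (m : G) ∈ K φ ⊓ K ψ)))
  · obtain ⟨w, hw, rfl⟩ := w1.ge hs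
    obtain ⟨k, hk, rfl⟩ := a1 ht
    refine ⟨w * ⟨k, k.2.1⟩, by rw [map_mul, (mem_K (φ := φ) (x := ⟨k, k.2.1⟩)).1 hk, mul_one], ?_⟩
    rw [map_mul, b2 w hw, one_mul]
    exact b3 _ k.2
  · have c1 : cj g (K φ) ≤ K ψ := (dich h' (hg ▸ cj_mono g K_le) (im_self (φ := ψ) ▸ hA')
      (by rw [← cj_normalizer, hg]; exact cj_mono g K_norm)).resolve_right fun c => by
        obtain ⟨e⟩ := iso_im (φ := ρ) L.K_le (by rw [L'.K_rho hρ, hD])
        have := (card_le_of_le c).trans card_im_le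
        rw [card_cj, Nat.card_congr e.toEquiv] at this
        exact (card_im_rho_lt h' ρ).not_ge this
    have c2 : ∀ n : N, sign (ψ n) = 1 := fun n => by
      have hn : g⁻¹ * n * g ∈ M := mem_cj.1 (hg ▸ n.2)
      obtain ⟨w, hw, e⟩ := w1.ge (hs ⟨_, hn⟩)
      have hw' : g * w * g⁻¹ ∈ N := hg ▸ conj_mem_cj g w.2
      have e1 : ψ (⟨_, hw'⟩⁻¹ * n) = 1 := mem_K.1 (c1 (mem_cj.2 (by
        have : ((w⁻¹ * ⟨_, hn⟩ : M) : G) ∈ K φ := mem_K.2 (by rw [map_mul, map_inv, e, inv_mul_cancel])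
        simpa [mul_assoc] using this)))
      rw [map_mul, map_inv, inv_mul_eq_one] at e1
      have e2 : im ψ (cj g ⁅W φ, W φ⁆) ≤ alternatingGroup β := by
        have : cj g (W φ) ≤ N := hg ▸ cj_mono g inf_le_left
        rw [cj_commutator, im_comm this this]
        exact (commutator_mono le_top le_top).trans alternatingGroup.commutator_perm_le
      rw [← e1]
      exact e2 ⟨_, conj_mem_cj g hw, rfl⟩
    obtain ⟨w, hw, hb⟩ := L.fac h w1.ge m
    rw [show m = w * (w⁻¹ * m) by simp, map_mul, b2 w hw, one_mul, b3 _ hb, ← sign_ofSubtype, hρ, c2]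

end Cfsg.Lib.AltSub
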